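import Cfsg.Agent.H175.RIM.GenSeven
import Cfsg.Agent.H175.RIM.AltSeven
import Cfsg.Agent.H175.RIM.Red
import Cfsg.Agent.H88.RIM.T3
import Cfsg.Agent.H388.RI.Use
import Cfsg.Agent.H681.Sev.A7
import Cfsg.Agent.H795.RIM.Tool

/-!
# S4816: the row `(A₇, 5)` (helper175)
-/

set_option autoImplicit false
set_option linter.unusedSectionVars false

namespace Cfsg.Agent.H175.RIM.Seven

open Equiv Equiv.Perm Subgroup Cfsg Cfsg.Agent.H665.RIM Cfsg.Agent.H88.RIM
open scoped Pointwise

universe u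

theorem card_A7 : Nat.card A7 = 2520 := Cfsg.Agent.H681.Sev.A7.card_A7

theorem o5 : orderOf x5 = 5 := by
  have : Fact (Nat.Prime 5) := ⟨by norm_num⟩
  exact orderOf_eq_prime x5_pow x5_ne

theorem exists_P : ∃ P : Sylow 5 A7, (P : Subgroup A7) = zpowers x5 := by
  have : Fact (Nat.Prime 5) := ⟨by norm_num⟩
  have h1 : IsPGroup 5 (zpowers x5) := by
    rw [IsPGroup.iff_card]
    exact ⟨1, by rw [Nat.card_zpowers, o5]; rfl⟩
  obtain ⟨P, hP⟩ := h1.exists_le_sylow
  refine ⟨P, ?_⟩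
  refine (eq_of_le_of_card_ge hP ?_).symm
  obtain ⟨n, hn⟩ := (IsPGroup.iff_card (p := 5)).1 P.2
  have h2 : Nat.card P ∣ 2520 := by rw [← card_A7]; exact card_subgroup_dvd_card _
  rw [Nat.card_zpowers, o5, hn]
  rw [hn] at h2
  rcases Nat.lt_or_ge n 2 with h | h
  · interval_cases n <;> norm_num
  · exact absurd ((pow_dvd_pow 5 h).trans h2) (by norm_num)

theorem orderOf_u4 : orderOf u4 = 4 := by
  have := orderOf_eq_prime_pow (p := 2) (n := 1) (x := u4) (by rw [pow_one]; exact u4_sq)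
    (by exact u4_pow)
  rw [this]
  rfl

theorem twenty_dvd : 20 ∣ Nat.card (normalizer ((zpowers x5 : Subgroup A7) : Set A7)) := by
  have h1 : x5 ∈ normalizer ((zpowers x5 : Subgroup A7) : Set A7) := le_normalizer (mem_zpowers x5)
  have h2 : u4 ∈ normalizer ((zpowers x5 : Subgroup A7) : Set A7) := by
    have hle : (zpowers x5).map (MulAut.conj u4).toMonoidHom ≤ zpowers x5 := by
      rw [MonoidHom.map_zpowers, zpowers_le]
      show u4 * x5 * u4⁻¹ ∈ zpowers x5
      rw [u4_x5]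
      exact pow_mem (mem_zpowers x5) 2
    have heq : (zpowers x5).map (MulAut.conj u4).toMonoidHom = zpowers x5 := by
      refine eq_of_le_of_card_ge hle ?_
      rw [Subgroup.card_map_of_injective (MulAut.conj u4).injective]
    rw [mem_normalizer_iff]
    intro h
    constructor
    · intro hh
      exact hle ⟨h, hh, rfl⟩
    · intro hh
      have h3 : u4 * h * u4⁻¹ ∈ (zpowers x5).map (MulAut.conj u4).toMonoidHom := by rw [heq]; exact hh
      obtain ⟨k, hk, hk2⟩ := h3
      have : k = h := (MulAut.conj u4).injective hk2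
      exact this ▸ hk
  have h5 : 5 ∣ Nat.card (normalizer ((zpowers x5 : Subgroup A7) : Set A7)) := by
    rw [← o5]; exact Subgroup.orderOf_dvd_natCard _ h1
  have h4 : 4 ∣ Nat.card (normalizer ((zpowers x5 : Subgroup A7) : Set A7)) := by
    rw [← orderOf_u4]; exact Subgroup.orderOf_dvd_natCard _ h2
  exact (Nat.Coprime.mul_dvd_of_dvd_of_dvd (by norm_num) h5 h4 : 5 * 4 ∣ _)

theorem card_syl_le : Nat.card (Sylow 5 A7) ≤ 126 := by
  have : Fact (Nat.Prime 5) := ⟨by norm_num⟩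
  obtain ⟨P, hP⟩ := exists_P
  have h1 : Nat.card (Sylow 5 A7) = (normalizer ((P : Subgroup A7) : Set A7)).index := P.card_eq_index_normalizer
  have h2 := (normalizer ((P : Subgroup A7) : Set A7)).card_mul_index
  rw [card_A7, ← h1, hP] at h2
  obtain ⟨k, hk⟩ := twenty_dvd
  rw [hk] at h2
  have hk0 : 0 < k := by
    rcases Nat.eq_zero_or_pos k with h | h
    · rw [h] at h2; simp at h2
    · exact h
  nlinarith

theorem m11 : a1 * a1 = 1 := by decide +kernel
theorem m22 : a2 * a2 = 1 := by decide +kernel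
theorem m33 : a3 * a3 = 1 := by decide +kernel
theorem m12 : a1 * a2 = a3 := by decide +kernel
theorem m21 : a2 * a1 = a3 := by decide +kernel
theorem m13 : a1 * a3 = a2 := by decide +kernel
theorem m31 : a3 * a1 = a2 := by decide +kernel
theorem m23 : a2 * a3 = a1 := by decide +kernel
theorem m32 : a3 * a2 = a1 := by decide +kernel
theorem c1 : y3 * a1 * y3⁻¹ = a3 := by decide +kernel
theorem c2 : y3 * a2 * y3⁻¹ = a1 := by decide +kernel
theorem c3 : y3 * a3 * y3⁻¹ = a2 := by decide +kernel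
theorem n13 : a3 ≠ a1 := by decide +kernel

/-- the four-group -/
def A : Subgroup A7 where
  carrier := {g | g = 1 ∨ g = a1 ∨ g = a2 ∨ g = a3}
  one_mem' := Or.inl rfl
  mul_mem' := by
    rintro g k (rfl | rfl | rfl | rfl) (rfl | rfl | rfl | rfl) <;>
      simp only [Set.mem_ofPred_eq, one_mul, mul_one, m11, m22, m33, m12, m21, m13, m31, m23, m32, true_or, or_true]
  inv_mem' := by
    rintro g (rfl | rfl | rfl | rfl)
    · left; exact inv_one
    · right; left; exact inv_eq_of_mul_eq_one_right m11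
    · right; right; left; exact inv_eq_of_mul_eq_one_right m22
    · right; right; right; exact inv_eq_of_mul_eq_one_right m33

theorem mem_A {g : A7} : g ∈ A ↔ (g = 1 ∨ g = a1 ∨ g = a2 ∨ g = a3) := Iff.rfl

theorem card_A_le : Nat.card A ≤ 4 := by
  let f : Fin 4 → A := ![⟨1, Or.inl rfl⟩, ⟨a1, Or.inr (Or.inl rfl)⟩, ⟨a2, Or.inr (Or.inr (Or.inl rfl))⟩,
    ⟨a3, Or.inr (Or.inr (Or.inr rfl))⟩]
  have hf : Function.Surjective f := by
    rintro ⟨g, (rfl | rfl | rfl | rfl)⟩
    · exact ⟨0, rfl⟩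
    · exact ⟨1, rfl⟩
    · exact ⟨2, rfl⟩
    · exact ⟨3, rfl⟩
  have := Nat.card_le_card_of_surjective f hf
  rwa [Nat.card_fin] at this

theorem A_conj : ∀ a ∈ A, y3 * a * y3⁻¹ ∈ A := by
  rintro a (rfl | rfl | rfl | rfl)
  · rw [mul_one, mul_inv_cancel]; exact A.one_mem
  · rw [c1]; exact Or.inr (Or.inr (Or.inr rfl))
  · rw [c2]; exact Or.inr (Or.inl rfl)
  · rw [c3]; exact Or.inr (Or.inr (Or.inl rfl))

theorem A_comm : ∀ a ∈ A, ∀ b ∈ A, a * b = b * a := by
  rintro a (rfl | rfl | rfl | rfl) b (rfl | rfl | rfl | rfl) <;>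
    simp only [one_mul, mul_one, m11, m22, m33, m12, m21, m13, m31, m23, m32]

theorem a1_mem : a1 ∈ A := Or.inr (Or.inl rfl)

theorem a1_moved : y3 * a1 * y3⁻¹ ≠ a1 := by rw [c1]; exact n13

section mod

variable {V : Type*} [AddCommGroup V] [Finite V] [DistribMulAction A7 V]

theorem card_eq_pow (h5 : ∀ v : V, 5 • v = 0) : ∃ n, Nat.card V = 5 ^ n := by
  obtain ⟨e, he⟩ := H388.RI.index_pow (by norm_num) h5 (⊥ : AddSubgroup V)
  exact ⟨e, by rw [← he, AddSubgroup.index_bot]⟩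

/-- the element of order 7 -/
theorem le_card (h5 : ∀ v : V, 5 • v = 0) (hf : ∀ h : A7, (∀ v : V, h • v = v) → h = 1) : 5 ^ 6 ≤ Nat.card V := by
  have : Fact (Nat.Prime 7) := ⟨by norm_num⟩
  have ho : orderOf w7 = 7 := orderOf_eq_prime w7_pow w7_ne
  have hP : IsPGroup 7 (zpowers w7) := by
    rw [IsPGroup.iff_card]
    exact ⟨1, by rw [Nat.card_zpowers, ho]; rfl⟩
  have h1 := hP.card_modEq_card_fixedPoints V
  have h2 : Nat.card (MulAction.fixedPoints (zpowers w7) V) = Nat.card (fxV V (zpowers w7)) := by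
    refine Nat.card_congr (Equiv.subtypeEquivRight fun v => ?_)
    rw [MulAction.mem_fixedPoints]
    exact ⟨fun h g hg => h ⟨g, hg⟩, fun h g => h g g.2⟩
  rw [h2] at h1
  obtain ⟨e, he⟩ := H388.RI.index_pow (by norm_num) h5 (fxV V (zpowers w7))
  have h3 := AddSubgroup.card_mul_index (fxV V (zpowers w7))
  obtain ⟨n, hn⟩ := card_eq_pow h5
  obtain ⟨d, hd⟩ : ∃ d, Nat.card (fxV V (zpowers w7)) = 5 ^ d := by
    have : Nat.card (fxV V (zpowers w7)) ∣ 5 ^ n := by rw [← hn, ← h3]; exact dvd_mul_right _ _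
    obtain ⟨d, -, hd⟩ := (Nat.dvd_prime_pow (by norm_num)).1 this
    exact ⟨d, hd⟩
  have he0 : e ≠ 0 := by
    rintro rfl
    rw [pow_zero, AddSubgroup.index_eq_one] at he
    apply w7_ne
    apply hf
    intro v
    have : v ∈ fxV V (zpowers w7) := by rw [he]; exact AddSubgroup.mem_top v
    exact this w7 (mem_zpowers w7)
  rw [← h3, hd, he] at h1
  have h4 : 5 ^ e ≡ 1 [MOD 7] := by
    have h5' : 5 ^ d * 5 ^ e ≡ 5 ^ d * 1 [MOD 7] := by rwa [mul_one]
    exact Nat.ModEq.cancel_left_of_coprime (by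
      rw [Nat.gcd_comm]
      exact Nat.Coprime.pow_left d (by norm_num)) h5'
  have h6 : 6 ≤ e := by
    by_contra hlt
    push Not at hlt
    have : e < 6 := hlt
    interval_cases e
    · exact he0 rfl
    all_goals exact absurd h4 (by decide)
  calc 5 ^ 6 ≤ 5 ^ e := Nat.pow_le_pow_right (by norm_num) h6
    _ ≤ Nat.card V := by rw [← h3, he]; exact Nat.le_mul_of_pos_left _ Nat.card_pos

theorem index_eq (h5 : ∀ v : V, 5 • v = 0) (hf : ∀ h : A7, (∀ v : V, h • v = v) → h = 1)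
    (h0 : ∀ v : V, (∀ h : A7, h • v = v) → v = 0) (horb : ∀ v : V, ¬ 5 ∣ (MulAction.stabilizer A7 v).index)
    (P : Sylow 5 A7) (hP : (P : Subgroup A7) = zpowers x5) :
    (fxV V (P : Subgroup A7)).index = 125 ∧ Nat.card V = 5 ^ 6 := by
  have : Fact (Nat.Prime 5) := ⟨by norm_num⟩
  have h1 := (index_le_card_sylow P horb).trans card_syl_le
  obtain ⟨e, he⟩ := H388.RI.index_pow (by norm_num) h5 (fxV V (P : Subgroup A7))
  have h2 : Nat.card V ≤ (fxV V (P : Subgroup A7)).index ^ 2 := by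
    refine card_le_pow (k := 1) h0 (P : Subgroup A7) (fun _ => gg) ?_
    have h3 : (MulAut.conj gg • (P : Subgroup A7)) = zpowers y5 := by
      rw [hP]
      show (zpowers x5).map (MulAut.conj gg).toMonoidHom = zpowers y5
      have h4 : (MulAut.conj gg).toMonoidHom x5 = y5 := (MulAut.conj_apply gg x5).trans conj_x5
      rw [MonoidHom.map_zpowers, h4]
    rw [iSup_const, h3, hP]
    refine gen _ ?_ ?_
    · exact le_sup_left (a := zpowers x5) (mem_zpowers x5)
    · exact le_sup_right (b := zpowers y5) (mem_zpowers y5)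
  have h3 := le_card h5 hf
  rw [he] at h1 h2 ⊢
  have h4 : e < 4 := by
    by_contra hlt
    push Not at hlt
    have := Nat.pow_le_pow_right (n := 5) (by norm_num) hlt
    omega
  have h5 : 3 ≤ e := by
    by_contra hlt
    push Not at hlt
    have := Nat.pow_le_pow_right (n := 5) (by norm_num) (Nat.lt_succ_iff.1 hlt)
    have h6 : (5 ^ e) ^ 2 ≤ (5 ^ 2) ^ 2 := Nat.pow_le_pow_left this 2
    omega
  obtain rfl : e = 3 := by omega
  refine ⟨by norm_num, ?_⟩
  have h6 : ((5 : ℕ) ^ 3) ^ 2 = 5 ^ 6 := by norm_num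
  omega

/-- **no module** -/
theorem false_mod (h5 : ∀ v : V, 5 • v = 0) (hf : ∀ h : A7, (∀ v : V, h • v = v) → h = 1)
    (h0 : ∀ v : V, (∀ h : A7, h • v = v) → v = 0) (horb : ∀ v : V, ¬ 5 ∣ (MulAction.stabilizer A7 v).index) : False := by
  classical
  have : Fact (Nat.Prime 5) := ⟨by norm_num⟩
  obtain ⟨P, hP⟩ := exists_P
  obtain ⟨hi, hV⟩ := index_eq h5 hf h0 horb P hP
  have hcF : ∀ Q : Sylow 5 A7, Nat.card (H388.RI.F V (Q : Subgroup A7)) = 125 := by
    intro Q
    rw [H388.RI.card_F_sylow (by norm_num) P Q]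
    have h1 := AddSubgroup.card_mul_index (fxV V (P : Subgroup A7))
    rw [hi, hV] at h1
    have h2 : Nat.card (fxV V (P : Subgroup A7)) = 125 := by omega
    exact h2
  -- pairs
  let X := Σ Q : Sylow 5 A7, {v : H388.RI.F V (Q : Subgroup A7) // v ≠ 0}
  let f : X → {v : V // v ≠ 0} := fun a => ⟨a.2.1.1, fun h => a.2.2 (Subtype.ext h)⟩
  have hsurj : Function.Surjective f := by
    rintro ⟨v, hv⟩
    obtain ⟨Q, hQ⟩ := H388.RI.exists_sylow (by norm_num) horb v
    exact ⟨⟨Q, ⟨⟨v, hQ⟩, fun h => hv (congrArg Subtype.val h)⟩⟩, rfl⟩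
  have hne : ∀ (W : Type _) [AddCommGroup W] [Finite W], Nat.card {v : W // v ≠ 0} = Nat.card W - 1 := by
    intro W _ _
    have := Fintype.ofFinite W
    rw [Nat.card_eq_fintype_card, Nat.card_eq_fintype_card, Fintype.card_subtype_compl, Fintype.card_subtype_eq]
  have hX : Nat.card X = Nat.card (Sylow 5 A7) * 124 := by
    have := Fintype.ofFinite (Sylow 5 A7)
    have hq : ∀ Q : Sylow 5 A7, Nat.card {v : H388.RI.F V (Q : Subgroup A7) // v ≠ 0} = 124 := by
      intro Q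
      rw [hne, hcF]
    rw [Nat.card_sigma]
    simp only [hq]
    rw [Finset.sum_const, smul_eq_mul, Finset.card_univ, Nat.card_eq_fintype_card]
  have hcV : Nat.card {v : V // v ≠ 0} = 15624 := by
    rw [hne, hV]; norm_num
  have hle : Nat.card X ≤ Nat.card {v : V // v ≠ 0} := by
    rw [hX, hcV]
    have := card_syl_le
    omega
  have hbij : Function.Bijective f := hsurj.bijective_of_nat_card_le hle
  have hsyl : Nat.card (Sylow 5 A7) = 126 := by
    have h1 := Nat.card_le_card_of_surjective f hsurj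
    rw [hX, hcV] at h1
    have := card_syl_le
    omega
  -- the vector fixed by an element of order three
  obtain ⟨v, hv0, hv⟩ := exists_fixed (V := V) (p := 5) (s := 3) (by norm_num) (by norm_num) y3_pow A A_conj A_comm
    (by
      intro h
      have h1 := Nat.le_of_dvd Nat.card_pos h
      have h2 := card_A_le
      omega) h5 (fun h _ => hf h) ⟨a1, a1_mem, a1_moved⟩
  obtain ⟨Q, hQ⟩ := H388.RI.exists_sylow (by norm_num) horb v
  have hQ' : v ∈ H388.RI.F V ((y3 • Q : Sylow 5 A7) : Subgroup A7) := by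
    rintro _ ⟨g, hg, rfl⟩
    show (y3 * g * y3⁻¹) • v = v
    have h1 : y3⁻¹ • v = v := by rw [inv_smul_eq_iff, hv]
    rw [mul_smul, mul_smul, h1, hQ g hg, hv]
  have hQQ : y3 • Q = Q := by
    have h1 : f ⟨y3 • Q, ⟨⟨v, hQ'⟩, fun h => hv0 (congrArg Subtype.val h)⟩⟩ =
        f ⟨Q, ⟨⟨v, hQ⟩, fun h => hv0 (congrArg Subtype.val h)⟩⟩ := rfl
    exact congrArg Sigma.fst (hbij.1 h1)
  have hN : y3 ∈ normalizer ((Q : Subgroup A7) : Set A7) := Sylow.smul_eq_iff_mem_normalizer.1 hQQ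
  have h3 : 3 ∣ Nat.card (normalizer ((Q : Subgroup A7) : Set A7)) := by
    have : Fact (Nat.Prime 3) := ⟨by norm_num⟩
    rw [← orderOf_eq_prime y3_pow y3_ne]
    exact Subgroup.orderOf_dvd_natCard _ hN
  have h6 := (normalizer ((Q : Subgroup A7) : Set A7)).card_mul_index
  have h7 : Nat.card (Sylow 5 A7) = (normalizer ((Q : Subgroup A7) : Set A7)).index := Q.card_eq_index_normalizer
  rw [← h7, hsyl, card_A7] at h6
  omega

end mod

theorem noPEx : NoPEx.{0} 5 A7 := by
  intro V _ _ _ h5 hnt hf hirr horb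
  refine false_mod h5 hf (fun v hv => ?_) horb
  have : Nontrivial A7 := ⟨⟨x5, 1, x5_ne⟩⟩
  exact H388.RI.fixed_eq_zero hf hirr v hv

end Cfsg.Agent.H175.RIM.Seven
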