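import Cfsg.Agent.H175.RIM.ASevenFive
import Cfsg.Agent.H325.RIM.EKCongr

/-!
# S4816: `NB 5 2`, `NB 5 3`, `NB 7 2`, `NB 7 3` for `A₇` (helper175)
-/

set_option autoImplicit false
set_option linter.unusedSectionVars false

namespace Cfsg.Agent.H175.RIM.Seven

open Equiv Equiv.Perm Subgroup Cfsg Cfsg.Agent.H665.RIM Cfsg.Agent.H620.RIM Cfsg.Agent.H795.RIM

universe u

theorem nb_5_2 {S : Type u} [Group S] (e : S ≃* A7) : NB 5 2 S := by
  refine nb_two_alt (n := 7) (by norm_num) e (by norm_num) (by norm_num) ?_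
  refine Cfsg.Agent.H698.RIM.dvd_two (n := 7) (k := 1) (by norm_num) (by norm_num) (by norm_num) (by norm_num) ?_
  have : ((Nat.choose 7 1 : ℕ) : ℤ) = 7 := by decide
  rw [this]
  norm_num

/-- representatives -/
def b6 : A7 := ⟨c[0, 1] * c[2, 3] * c[4, 5, 6], mem_alternatingGroup.2 (by decide +kernel)⟩

theorem ct_b6 : ((b6 : A7) : Perm (Fin 7)).cycleType = {3, 2, 2} := by decide +kernel
theorem ct_x5 : ((x5 : A7) : Perm (Fin 7)).cycleType = {5} := by decide +kernel
theorem ct_w7 : ((w7 : A7) : Perm (Fin 7)).cycleType = {7} := by decide +kernel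
theorem ct_a1 : ((a1 : A7) : Perm (Fin 7)).cycleType = {2, 2} := by decide +kernel

theorem o2 : orderOf a1 = 2 := Cfsg.Agent.H681.Sev.A7.ct_two.2 ct_a1
theorem o7 : orderOf w7 = 7 := Cfsg.Agent.H681.Sev.A7.ct_seven.2 ct_w7
theorem o6 : orderOf b6 = 6 := by
  rw [← Subgroup.orderOf_coe, ← lcm_cycleType, ct_b6]
  decide

theorem card_b6 : Nat.card (centralizer ({b6} : Set A7)) = 12 :=
  Cfsg.Agent.H681.Sev.A7.card_cent b6 b6 _ 12 ct_b6 ct_b6 c[0, 1] (by decide +kernel) (by decide +kernel)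
    (by decide +kernel)

theorem card_x5 : Nat.card (centralizer ({x5} : Set A7)) = 5 :=
  Cfsg.Agent.H681.Sev.A7.card_cent x5 x5 _ 5 ct_x5 ct_x5 c[5, 6] (by decide +kernel) (by decide +kernel)
    (by decide +kernel)

def L : List A7 := [1, a1, u4, x5, b6, w7]

theorem L_pw : L.Pairwise fun a b => ¬ IsConj a b := by
  have key : ∀ a b : A7, orderOf a ≠ orderOf b → ¬ IsConj a b := fun a b h h1 => by
    obtain ⟨c, hc⟩ := isConj_iff.1 h1
    apply h
    rw [← hc]
    exact (orderOf_injective (MulAut.conj c).toMonoidHom (MulAut.conj c).injective a).symm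
  have h1 : (L.map orderOf).Pairwise (· ≠ ·) := by
    show [orderOf (1 : A7), orderOf a1, orderOf u4, orderOf x5, orderOf b6, orderOf w7].Pairwise (· ≠ ·)
    rw [orderOf_one, o2, orderOf_u4, o5, o6, o7]
    decide
  rw [List.pairwise_map] at h1
  exact h1.imp fun h => key _ _ h

theorem L_good : ∀ g ∈ L, MGood 3 g := by
  intro g hg
  simp only [L, List.mem_cons, List.not_mem_nil, or_false] at hg
  rcases hg with rfl | rfl | rfl | rfl | rfl | rfl
  · exact mGood_of_coprime (by rw [orderOf_one]; norm_num)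
  · exact mGood_of_coprime (by rw [o2]; norm_num)
  · exact mGood_of_coprime (by rw [orderOf_u4]; norm_num)
  · exact mGood_of_coprime (by rw [o5]; norm_num)
  · refine mGood_of_card o6 (by norm_num) (k := 2) card_b6 ?_
    intro r hr h3
    rw [(Nat.prime_dvd_prime_iff_eq hr Nat.prime_three).1 h3]
    right
    norm_num
  · exact mGood_of_coprime (by rw [o7]; norm_num)

theorem nb_5_3 {S : Type u} [Group S] (e : S ≃* A7) : NB 5 3 S :=
  nb_cent_model (by norm_num) (by norm_num) e.symm (y := x5) (n := 1) (by rw [o5]; rfl) L L_pw L_good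
    (by rw [card_x5]; decide)

/-- **the row `(A₇, 5)`** -/
theorem ek_a7_5 : EK.{0} 5 A7 :=
  ek_of_nb (fun _ _ _ π hπ hc hperf _ => card_ker_dvd_six (Or.inr rfl) (MulEquiv.refl A7) π hπ hc hperf)
    (nb_5_2 (MulEquiv.refl A7)) (nb_5_3 (MulEquiv.refl A7)) noPEx

/-- **the row `(A₇, 5)`**, any universe -/
theorem kill_a7_5 {S : Type u} [Group S] (e : S ≃* alternatingGroup (Fin 7)) : Kill 5 S :=
  Or.inr (Cfsg.Agent.H325.RIM.EK.congr e ek_a7_5)

end Cfsg.Agent.H175.RIM.Seven
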