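import Cfsg.Agent.H175.RIM.ASevenNB

/-!
# S4816: `NB 7 2`, `NB 7 3` for `A₇` and the reduction of `(A₇, 7)` to the module statement (helper175)
-/

set_option autoImplicit false
set_option linter.unusedSectionVars false

namespace Cfsg.Agent.H175.RIM.Seven

open Equiv Equiv.Perm Subgroup Cfsg Cfsg.Agent.H665.RIM Cfsg.Agent.H620.RIM Cfsg.Agent.H795.RIM

universe u

theorem nb_7_2 {S : Type u} [Group S] (e : S ≃* A7) : NB 7 2 S := by
  refine nb_two_alt (n := 7) (by norm_num) e (by norm_num) (by norm_num) ?_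
  refine ⟨[4, 2, 1], Cfsg.Agent.H698.RIM.strict_three (by norm_num) (by norm_num) (by norm_num), by norm_num, ?_⟩
  have h : H614.Spin.X (Multiset.replicate 7 1) [((4 : ℕ) : ℤ), 2, 1] * 6 = ((7 : ℕ) : ℤ) * (((7 : ℕ) : ℤ) - 4) * (((7 : ℕ) : ℤ) - 5) :=
    Cfsg.Agent.H698.RIM.X_three_a (n := 7) (by norm_num)
  have h2 : H614.Spin.X (Multiset.replicate 7 1) [((4 : ℕ) : ℤ), 2, 1] = 7 := by
    have h3 : ((7 : ℕ) : ℤ) * (((7 : ℕ) : ℤ) - 4) * (((7 : ℕ) : ℤ) - 5) = 7 * 6 := by norm_num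
    rw [h3] at h
    exact mul_right_cancel₀ (by norm_num) h
  exact ⟨1, by rw [mul_one]; exact h2⟩

theorem card_w7 : Nat.card (centralizer ({w7} : Set A7)) = 7 := by
  have h1 : w7 ∈ centralizer ({w7} : Set A7) := mem_centralizer_singleton_iff.2 rfl
  have h2 : 7 ∣ Nat.card (centralizer ({w7} : Set A7)) := by
    have h0 := Subgroup.orderOf_dvd_natCard _ h1
    rwa [o7] at h0
  have h3 : Nat.card (centralizer ({w7} : Set A7)) ≤ Nat.card (Fin 7) := by
    refine Nat.card_le_card_of_injective (fun g : centralizer ({w7} : Set A7) => ((g : A7) : Perm (Fin 7)) 0) ?_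
    intro g h hgh
    have hc : ∀ g : centralizer ({w7} : Set A7), Commute ((g : A7) : Perm (Fin 7)) (w7 : Perm (Fin 7)) := by
      intro g
      have := mem_centralizer_singleton_iff.1 g.2
      exact congrArg Subtype.val this
    apply Subtype.ext
    apply Subtype.ext
    ext1 b
    obtain ⟨k, rfl⟩ := trans7 0 b
    have e1 : ∀ g : centralizer ({w7} : Set A7), ((g : A7) : Perm (Fin 7)) (((w7 : Perm (Fin 7)) ^ (k : ℕ)) 0) =
        ((w7 : Perm (Fin 7)) ^ (k : ℕ)) (((g : A7) : Perm (Fin 7)) 0) := by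
      intro g
      have := ((hc g).pow_right (k : ℕ)).eq
      exact congrArg (fun f : Perm (Fin 7) => f 0) this
    rw [e1, e1]
    exact congrArg _ hgh
  rw [Nat.card_fin] at h3
  exact le_antisymm h3 (Nat.le_of_dvd Nat.card_pos h2)

theorem nb_7_3 {S : Type u} [Group S] (e : S ≃* A7) : NB 7 3 S := by
  have : Fact (Nat.Prime 7) := ⟨by norm_num⟩
  refine nb_dz_self (w := 3) (by norm_num) e.symm ?_ o7 card_w7 ?_ L L_pw L_good ?_
  · rw [card_A7]; norm_num
  · rw [card_A7]; decide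
  · decide

/-- **the row `(A₇, 7)`** from the module statement -/
theorem ek_a7_7 (h : NoPEx.{0} 7 A7) : EK.{0} 7 A7 :=
  ek_of_nb (fun _ _ _ π hπ hc hperf _ => card_ker_dvd_six (Or.inr rfl) (MulEquiv.refl A7) π hπ hc hperf)
    (nb_7_2 (MulEquiv.refl A7)) (nb_7_3 (MulEquiv.refl A7)) h

end Cfsg.Agent.H175.RIM.Seven
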